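import Groth.Agent.UnivOpenSec.Sections
import Groth.Agent.AlgGlue.FiniteModels

/-!
# A finite cover with local sections of a universally open surjection (EGA IV 14.5.10)
-/

set_option autoImplicit false
set_option linter.style.haveILetI false
set_option backward.isDefEq.respectTransparency false
set_option backward.isDefEq.respectTransparency.types false

universe u

open AlgebraicGeometry CategoryTheory Limits

namespace Groth.Agent.UnivOpenSec

set_option maxHeartbeats 1600000 in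
/-- A finite cover with local sections. -/
theorem exists_finite_local_sections {X Y : Scheme.{u}} [IsNoetherian Y] (f : X ⟶ Y)
    [LocallyOfFiniteType f] [UniversallyOpen f] [Surjective f] :
    ∃ (Z : Scheme.{u}) (ν : Z ⟶ Y), IsFinite ν ∧ Surjective ν ∧
      ∀ z : Z, ∃ V : Z.Opens, z ∈ V ∧ ∃ s : (V : Scheme.{u}) ⟶ X, s ≫ f = V.ι ≫ ν := by
  classical
  obtain ⟨Z, ν, hν, hsurj, hsec⟩ := exists_integral_local_sections f
  haveI := hν
  haveI := hsurj
  obtain ⟨J, hJ, hdir, hne, E, cE, hcE, hE, ⟨ecE⟩⟩ := AlgGlue.exists_finite_fp_system ν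
  let D : Jᵒᵖ ⥤ Scheme.{u} := E ⋙ Over.forget Y
  let c := (Over.forget Y).mapCone cE
  let hc : IsLimit c := isLimitOfPreserves (Over.forget Y) hcE
  haveI : ∀ j, IsFinite (E.obj j).hom := fun j => (hE j).1
  haveI : ∀ {i j : Jᵒᵖ} (a : i ⟶ j), IsAffineHom (D.map a) := fun {i j} a => by
    have h : (E.map a).left ≫ (E.obj j).hom = (E.obj i).hom := Over.w (E.map a)
    haveI : IsAffineHom ((E.map a).left ≫ (E.obj j).hom) := by rw [h]; infer_instance
    exact IsAffineHom.of_comp (E.map a).left (E.obj j).hom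
  haveI : ∀ j, CompactSpace (D.obj j) := fun j => QuasiCompact.compactSpace_of_compactSpace (E.obj j).hom
  haveI : ∀ j, QuasiSeparatedSpace (D.obj j) := fun j => quasiSeparatedSpace_of_quasiSeparated (E.obj j).hom
  let t : D ⟶ (Functor.const _).obj Y :=
    { app := fun j => (E.obj j).hom
      naturality := fun i j a => (Over.w (E.map a)).trans (Category.comp_id _).symm }
  let e : c.pt ≅ Z := (Over.forget Y).mapIso ecE
  have het : ∀ j, c.π.app j ≫ (E.obj j).hom = e.hom ≫ ν := fun j =>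
    (Over.w (cE.π.app j)).trans (Over.w ecE.hom).symm
  -- quasi-compact opens with sections
  have h1 : ∀ x : c.pt, ∃ V : c.pt.Opens, x ∈ V ∧ IsCompact (V : Set c.pt) ∧
      ∃ s : (V : Scheme.{u}) ⟶ X, s ≫ f = V.ι ≫ e.hom ≫ ν := by
    intro x
    obtain ⟨V, hxV, s, hs⟩ := hsec (e.hom x)
    obtain ⟨W, hW, hxW, hWV⟩ := exists_isAffineOpen_mem_and_subset (x := x) (U := e.hom ⁻¹ᵁ V) hxV
    refine ⟨W, hxW, hW.isCompact, e.hom.resLE V W hWV ≫ s, ?_⟩
    rw [Category.assoc, hs, Scheme.Hom.resLE_comp_ι_assoc]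
  choose V hxV hVc s hs using h1
  haveI : CompactSpace c.pt := Scheme.compactSpace_of_isLimit D c hc
  obtain ⟨F, hF⟩ := isCompact_univ.elim_finite_subcover (fun x => (V x : Set c.pt)) (fun x => (V x).isOpen)
    fun x _ => Set.mem_iUnion.2 ⟨x, hxV x⟩
  have h2 : ∀ x : F, ∃ (i : Jᵒᵖ) (U : (D.obj i).Opens), IsCompact (U : Set (D.obj i)) ∧ c.π.app i ⁻¹ᵁ U = V x :=
    fun x => exists_preimage_eq D c hc (V x) (hVc x)
  choose i U hUc hU using h2
  -- a section on a stage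
  have h3 : ∀ x : F, ∃ (k : Jᵒᵖ) (a : k ⟶ i x) (g : ↑(D.map a ⁻¹ᵁ U x) ⟶ X),
      g ≫ f = (D.map a ⁻¹ᵁ U x).ι ≫ (E.obj k).hom := by
    intro x
    haveI : LocallyOfFinitePresentation f := inferInstance
    haveI : ∀ j : Over (i x), CompactSpace ((opensDiagram D (i x) (U x)).obj j) := fun j =>
      isCompact_iff_compactSpace.1 ((D.map j.hom).isCompact_preimage (hUc x))
    haveI : ∀ j : Over (i x), QuasiSeparatedSpace ((opensDiagram D (i x) (U x)).obj j) := fun j =>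
      quasiSeparatedSpace_of_quasiSeparated ((D.map j.hom ⁻¹ᵁ U x).ι ≫ (E.obj j.left).hom)
    obtain ⟨j, g, -, hg⟩ := Scheme.exists_π_app_comp_eq_of_locallyOfFinitePresentation (opensDiagram D (i x) (U x))
      (opensDiagramι D (i x) (U x) ≫ Functor.whiskerLeft (Over.forget (i x)) t) f (opensCone D c (i x) (U x))
      (isLimitOpensCone D c hc (i x) (U x)) (c.pt.homOfLE (hU x).le ≫ s x) (by
        ext j : 2
        show (c.π.app j.left).resLE _ _ _ ≫ (D.map j.hom ⁻¹ᵁ U x).ι ≫ (E.obj j.left).hom =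
          (c.pt.homOfLE (hU x).le ≫ s x) ≫ f
        rw [Scheme.Hom.resLE_comp_ι_assoc, het, Category.assoc, hs, Scheme.homOfLE_ι_assoc])
    exact ⟨j.left, j.hom, g, hg⟩
  choose k a g hg using h3
  obtain ⟨l₀, hl₀⟩ := IsCofiltered.inf_objs_exists (Finset.univ.image k)
  let al : ∀ x : F, l₀ ⟶ k x := fun x => (hl₀ (Finset.mem_image_of_mem _ (Finset.mem_univ x))).some
  let U₀ : (D.obj l₀).Opens := ⨆ x : F, D.map (al x) ⁻¹ᵁ (D.map (a x) ⁻¹ᵁ U x)
  have hU₀ : c.π.app l₀ ⁻¹ᵁ U₀ = c.π.app l₀ ⁻¹ᵁ ⊤ := by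
    refine le_antisymm le_top fun z _ => ?_
    obtain ⟨x, hxF, hzx⟩ : ∃ x, ∃ _ : x ∈ F, z ∈ V x := by simpa using hF (Set.mem_univ z)
    refine TopologicalSpace.Opens.mem_iSup.2 ⟨⟨x, hxF⟩, ?_⟩
    rw [← hU ⟨x, hxF⟩] at hzx
    show (c.π.app l₀ ≫ D.map (al _) ≫ D.map (a _)) z ∈ U _
    rwa [Cone.w_assoc, Cone.w]
  obtain ⟨l, b, hl⟩ := exists_map_preimage_eq_map_preimage D c hc (by
      rw [TopologicalSpace.Opens.coe_iSup]
      exact isCompact_iUnion fun x => (D.map (al x)).isCompact_preimage ((D.map (a x)).isCompact_preimage (hUc x)))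
    isCompact_univ hU₀
  refine ⟨D.obj l, (E.obj l).hom, inferInstance, ?_, fun z => ?_⟩
  · refine ⟨fun y => ?_⟩
    obtain ⟨z, hz⟩ := ν.surjective y
    refine ⟨c.π.app l (e.inv z), ?_⟩
    rw [← Scheme.Hom.comp_apply, het]
    exact ((Scheme.Hom.comp_apply e.inv (e.hom ≫ ν) z).symm.trans
      (congrArg (fun m : Z ⟶ Y => m z) (e.inv_hom_id_assoc ν))).trans hz
  · have hz : z ∈ D.map b ⁻¹ᵁ U₀ := by rw [hl]; trivial
    obtain ⟨x, hzx⟩ := TopologicalSpace.Opens.mem_iSup.1 hz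
    let Wx := D.map b ⁻¹ᵁ (D.map (al x) ⁻¹ᵁ (D.map (a x) ⁻¹ᵁ U x))
    refine ⟨Wx, hzx, (D.map b ≫ D.map (al x)).resLE (D.map (a x) ⁻¹ᵁ U x) Wx le_rfl ≫ g x, ?_⟩
    rw [Category.assoc, hg, Scheme.Hom.resLE_comp_ι_assoc, Category.assoc]
    congr 1
    rw [← Category.assoc, ← Functor.map_comp]
    exact Over.w (E.map (b ≫ al x))

end Groth.Agent.UnivOpenSec
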