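import Groth.Agent.UnivOpenSec.Sections

/-!
# The integral cover with local sections over a locally Noetherian base
-/

set_option autoImplicit false
set_option linter.style.haveILetI false
set_option backward.isDefEq.respectTransparency false
set_option backward.isDefEq.respectTransparency.types false

universe u

open AlgebraicGeometry CategoryTheory Limits TopologicalSpace

namespace Groth.Agent.UnivOpenSec

/-- The generic points in a Noetherian open are finitely many. -/
theorem finite_genericPoints_inter {Y : Scheme.{u}} [IsLocallyNoetherian Y] {U : Y.Opens}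
    (hU : IsAffineOpen U) : {η ∈ genericPoints Y | η ∈ U}.Finite := by
  haveI : IsAffine (U : Scheme.{u}) := hU
  haveI : AlgebraicGeometry.IsNoetherian (U : Scheme.{u}) := { }
  have hfin : (genericPoints (U : Scheme.{u})).Finite :=
    Set.finite_coe_iff.1 ((genericPoints.equiv (α := (U : Scheme.{u}))).finite_iff.2
      (Set.finite_coe_iff.2 NoetherianSpace.finite_irreducibleComponents))
  refine (hfin.image U.ι).subset ?_
  rintro η ⟨hη, hηU⟩
  refine ⟨⟨η, hηU⟩, ?_, rfl⟩
  show closure {(⟨η, hηU⟩ : (U : Scheme.{u}))} ∈ irreducibleComponents (U : Scheme.{u})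
  have he := U.ι.isOpenEmbedding
  have := preimage_mem_irreducibleComponents (hη : closure {η} ∈ irreducibleComponents Y) he
    (⟨η, subset_closure rfl, ⟨⟨η, hηU⟩, rfl⟩⟩)
  rwa [he.isInducing.closure_eq_preimage_closure_image, Set.image_singleton]

set_option maxHeartbeats 1600000 in
/-- An integral cover with local sections, over a locally Noetherian base. -/
theorem exists_integral_local_sections' {X Y : Scheme.{u}} [IsLocallyNoetherian Y] (f : X ⟶ Y)
    [LocallyOfFiniteType f] [UniversallyOpen f] [Surjective f] :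
    ∃ (Z : Scheme.{u}) (ν : Z ⟶ Y), IsIntegralHom ν ∧ Surjective ν ∧
      ∀ z : Z, ∃ V : Z.Opens, z ∈ V ∧ ∃ s : (V : Scheme.{u}) ⟶ X, s ≫ f = V.ι ≫ ν := by
  classical
  let G := genericPoints Y
  let W : G → Scheme.{u} := fun η => (geomPt η.1).normalization
  let w : ∀ η : G, W η ⟶ Y := fun η => (geomPt η.1).fromNormalization
  haveI : IsIntegralHom (Sigma.desc w) := by
    refine IsZariskiLocalAtTarget.of_iSup_eq_top (P := @IsIntegralHom) (fun U : Y.affineOpens => U.1)
      (iSup_affineOpens_eq_top Y) fun U => ?_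
    let S := {η : G // η.1 ∈ U.1}
    haveI : Finite S := by
      have := (finite_genericPoints_inter U.2).to_subtype
      exact Finite.of_injective (β := {η : Y | η ∈ genericPoints Y ∧ η ∈ U.1})
        (fun η => ⟨η.1.1, η.1.2, η.2⟩) fun a b h => Subtype.ext (Subtype.ext (congrArg Subtype.val h :))
    haveI : IsIntegralHom (Sigma.desc fun η : S => w η.1) :=
      SGA1Q.isIntegralHom_sigmaDesc _ fun η => inferInstance
    let Φ : (∐ fun η : S => W η.1) ⟶ ∐ W := Sigma.desc fun η => Sigma.ι W η.1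
    haveI : IsOpenImmersion Φ := isOpenImmersion_sigmaDesc _ _ fun i j hij => by
      have hd : Disjoint ((Sigma.ι W i.1).opensRange : Set ↥(∐ W)) (Sigma.ι W j.1).opensRange := by
        have h := disjoint_opensRange_sigmaι W i.1 j.1 fun h => hij (Subtype.ext h)
        rw [disjoint_iff] at h
        exact Set.disjoint_iff_inter_eq_empty.2 (congrArg (fun O : Opens ↥(∐ W) => (O : Set ↥(∐ W))) h)
      exact hd
    have hΦ : Φ ≫ Sigma.desc w = Sigma.desc fun η : S => w η.1 := by
      refine Sigma.hom_ext _ _ fun η => ?_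
      simp [Φ]
    have hcomp : IsIntegralHom ((Φ ≫ Sigma.desc w) ∣_ U.1) := by
      rw [hΦ]
      exact IsZariskiLocalAtTarget.restrict (P := @IsIntegralHom) inferInstance U.1
    rw [morphismRestrict_comp] at hcomp
    haveI : IsIso (Φ ∣_ (Sigma.desc w ⁻¹ᵁ U.1)) := by
      haveI : Surjective (Φ ∣_ (Sigma.desc w ⁻¹ᵁ U.1)) := ⟨fun z => by
        obtain ⟨η, q, hq⟩ := (sigmaOpenCover W).exists_eq z.1
        have hz : w η q ∈ U.1 := by
          have h2 : Sigma.desc w z.1 ∈ U.1 := z.2
          rw [← hq] at h2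
          rw [show w η = Sigma.ι W η ≫ Sigma.desc w from (Sigma.ι_desc w η).symm]
          exact h2
        have hs : η.1 ⤳ w η q := specializes_iff_mem_closure.2
          (range_fromNormalization_geomPt η.1 ▸ Set.mem_range_self q)
        let z' := Sigma.ι (fun η : S => W η.1) ⟨η, hs.mem_open U.1.isOpen hz⟩ q
        have e : Φ z' = z.1 := by
          show (Sigma.ι (fun η : S => W η.1) ⟨η, _⟩ ≫ Φ) q = z.1
          simp only [Φ, Sigma.ι_desc]
          exact hq
        refine ⟨⟨z', show Φ z' ∈ Sigma.desc w ⁻¹ᵁ U.1 from e ▸ z.2⟩, Subtype.ext ?_⟩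
        rw [morphismRestrict_base]
        exact e⟩
      exact (isIso_iff_isOpenImmersion_and_epi_base _).2 ⟨inferInstance,
        (TopCat.epi_iff_surjective _).2 (Φ ∣_ (Sigma.desc w ⁻¹ᵁ U.1)).surjective⟩
    exact (MorphismProperty.cancel_left_of_respectsIso @IsIntegralHom (Φ ∣_ (Sigma.desc w ⁻¹ᵁ U.1)) _).1 hcomp
  refine ⟨∐ W, Sigma.desc w, inferInstance, ⟨fun y => ?_⟩, fun z => ?_⟩
  · obtain ⟨S, hS, hy⟩ := exists_mem_irreducibleComponents_subset_of_isIrreducible _
      (isIrreducible_singleton (x := y))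
    obtain ⟨η, hη⟩ := QuasiSober.sober hS.1 (isClosed_of_mem_irreducibleComponents S hS)
    have hmem : η ∈ G := by
      show closure {η} ∈ irreducibleComponents Y
      rw [hη.def]; exact hS
    obtain ⟨q, hq⟩ : y ∈ Set.range (w ⟨η, hmem⟩) := by
      rw [range_fromNormalization_geomPt, hη.def]; exact hy rfl
    refine ⟨Sigma.ι W ⟨η, hmem⟩ q, ?_⟩
    rw [← Scheme.Hom.comp_apply, Sigma.ι_desc]
    exact hq
  · obtain ⟨η, q, rfl⟩ : ∃ η q, Sigma.ι W η q = z := by
      obtain ⟨η, q, h⟩ := (sigmaOpenCover W).exists_eq z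
      exact ⟨η, q, h⟩
    obtain ⟨V, hqV, s, hs⟩ := exists_section_geomPt η.1 f q
    let m : (V : Scheme.{u}) ⟶ ∐ W := V.ι ≫ Sigma.ι W η
    refine ⟨m.opensRange, ⟨⟨q, hqV⟩, rfl⟩, m.isoOpensRange.inv ≫ s, ?_⟩
    rw [Category.assoc, hs, Iso.inv_comp_eq, ← Category.assoc, Scheme.Hom.isoOpensRange_hom_ι]
    simp [m, w]

end Groth.Agent.UnivOpenSec
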