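import Groth.Agent.UnivOpenSec.Norm
import Groth.Agent.UnivOpen.Conditions
import Groth.Agent.UnibConn.Fibre

/-!
# Sections of universally open maps after an integral extension of the base (EGA IV 14.5.10)
-/

set_option autoImplicit false
set_option linter.style.haveILetI false
set_option linter.unusedSectionVars false
set_option backward.isDefEq.respectTransparency false
set_option backward.isDefEq.respectTransparency.types false

universe u

open AlgebraicGeometry CategoryTheory Limits

namespace Groth.Agent.UnivOpenSec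

section Algebraic

variable {A : Type u} [CommRing A] {K Ω : Type u} [Field K] [Field Ω] [Algebra A K] [Algebra A Ω]
  [Algebra K Ω] [IsScalarTower A K Ω] [Normal K Ω]

/-- Conjugation inside a finite normal subextension. -/
theorem exists_conj (q q' : Ideal (integralClosure A Ω)) [q.IsPrime] [q'.IsPrime]
    (h : q.comap (incl (A := A) (K := K)) = q'.comap (incl (A := A) (K := K)))
    (L : IntermediateField K Ω) [FiniteDimensional K L] [Normal K L] :
    ∃ τ : Ω ≃ₐ[K] Ω, ∀ x : integralClosure A Ω, (x : Ω) ∈ L → (act τ x ∈ q ↔ x ∈ q') := by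
  let j : integralClosure A L →ₐ[A] integralClosure A Ω := (L.val.restrictScalars A).mapIntegralClosure
  have hcomap : (q.comap j).comap (incl (K := K) (L := L)) = (q'.comap j).comap (incl (K := K) (L := L)) := by
    ext y
    have e : j (incl y) = incl y := Subtype.ext rfl
    simp only [Ideal.mem_comap, e]
    exact SetLike.ext_iff.1 h y
  haveI : (q.comap j).IsPrime := Ideal.IsPrime.comap _
  haveI : (q'.comap j).IsPrime := Ideal.IsPrime.comap _
  obtain ⟨σ, hσ⟩ := exists_act_le (K := K) (L := L) (q.comap j) (q'.comap j) hcomap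
  refine ⟨σ.symm.liftNormal Ω, fun x hx => ?_⟩
  let y : integralClosure A L := ⟨⟨x, hx⟩, (isIntegral_algHom_iff (L.val.restrictScalars A) L.val.injective).1 x.2⟩
  have hy : j y = x := Subtype.ext rfl
  have hτ : act (σ.symm.liftNormal Ω) x = j (act σ.symm y) := by
    refine Subtype.ext ?_
    show σ.symm.liftNormal Ω (algebraMap L Ω ⟨x, hx⟩) = _
    rw [AlgEquiv.liftNormal_commutes]
    rfl
  have hinv : act σ (act σ.symm y) = y := Subtype.ext (σ.apply_symm_apply _)
  rw [hτ, ← Ideal.mem_comap, ← hσ, Ideal.mem_comap, hinv, Ideal.mem_comap, hy]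

/-- A finitely generated subalgebra of the integral closure separates the primes of the normalisation
over a prime of the base. -/
theorem exists_separating [IsDomain A] [IsNoetherianRing A] [IsFractionRing A K] (p : Ideal A) [p.IsPrime] :
    ∃ A₁ : Subalgebra A (integralClosure A Ω), A₁.FG ∧
      (∀ x ∈ A₁, ∃ k : K, algebraMap K Ω k = (x : Ω)) ∧
      ∀ q q' : Ideal (integralClosure A Ω), q.IsPrime → q'.IsPrime → q.comap (algebraMap A _) = p →
        (∀ x ∈ A₁, x ∈ q ↔ x ∈ q') → q.comap (incl (A := A) (K := K)) = q'.comap (incl (A := A) (K := K)) := by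
  classical
  let S := {M : Ideal (integralClosure A K) | M.IsPrime ∧ M.comap (algebraMap A _) = p}
  have hS : S.Finite := UnibConn.finite_primes_over A K (integralClosure A K) p
  let w : (P : Ideal (integralClosure A K) × Ideal (integralClosure A K)) → integralClosure A K := fun P =>
    if h : ∃ x, x ∈ P.1 ∧ x ∉ P.2 then h.choose else 0
  let T : Set (integralClosure A Ω) := (fun P => incl (w P)) '' (S ×ˢ S)
  have hT : T.Finite := (hS.prod hS).image _
  refine ⟨Algebra.adjoin A T, Subalgebra.fg_def.2 ⟨T, hT, rfl⟩, fun x hx => ?_, ?_⟩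
  · have : Algebra.adjoin A T ≤ (incl (A := A) (K := K) (L := Ω)).range :=
      Algebra.adjoin_le (by rintro _ ⟨P, -, rfl⟩; exact ⟨w P, rfl⟩)
    obtain ⟨k, rfl⟩ := this hx
    exact ⟨k, rfl⟩
  · intro q q' hq hq' hp hiff
    have hq'p : q'.comap (algebraMap A _) = p := by
      ext a
      rw [Ideal.mem_comap, ← hiff _ (Subalgebra.algebraMap_mem _ a), ← Ideal.mem_comap, hp]
    let P := q.comap (incl (A := A) (K := K) (L := Ω))
    let P' := q'.comap (incl (A := A) (K := K) (L := Ω))
    have hmem : ∀ (r : Ideal (integralClosure A Ω)), r.IsPrime → r.comap (algebraMap A _) = p →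
        r.comap (incl (A := A) (K := K) (L := Ω)) ∈ S := fun r hr hrp => ⟨Ideal.IsPrime.comap _, by
      ext a
      rw [Ideal.mem_comap, Ideal.mem_comap, AlgHom.commutes, ← Ideal.mem_comap, hrp]⟩
    have key : ∀ r r' : Ideal (integralClosure A Ω), r.IsPrime → r'.IsPrime → r.comap (algebraMap A _) = p →
        r'.comap (algebraMap A _) = p → (∀ x ∈ Algebra.adjoin A T, x ∈ r → x ∈ r') →
        r.comap (incl (A := A) (K := K) (L := Ω)) ≤ r'.comap (incl (A := A) (K := K) (L := Ω)) := by
      intro r r' hr hr' hrp hr'p hsub x hx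
      by_contra hxn
      let Q := (r.comap (incl (A := A) (K := K) (L := Ω)), r'.comap (incl (A := A) (K := K) (L := Ω)))
      have hex : ∃ x, x ∈ Q.1 ∧ x ∉ Q.2 := ⟨x, hx, hxn⟩
      have hw : w Q = hex.choose := dif_pos hex
      obtain ⟨h1, h2⟩ := hex.choose_spec
      rw [← hw] at h1 h2
      exact h2 (hsub _ (Algebra.subset_adjoin ⟨Q, ⟨hmem r hr hrp, hmem r' hr' hr'p⟩, rfl⟩) h1)
    exact le_antisymm (key q q' hq hq' hp hq'p fun x hx => (hiff x hx).1)
      (key q' q hq' hq hq'p hp fun x hx => (hiff x hx).2)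

end Algebraic

section Geometric

/-- A closed point in a nonempty fibre. -/
theorem exists_closed_in_fibre {X Y : Scheme.{u}} (f : X ⟶ Y) [LocallyOfFiniteType f] [Surjective f] (y : Y) :
    ∃ x : X, f x = y ∧ ∀ x', f x' = f x → x ⤳ x' → x' = x := by
  obtain ⟨x₀, hx₀⟩ := f.surjective y
  obtain ⟨z₀, -⟩ : x₀ ∈ Set.range (f.fiberι y) := by rw [f.range_fiberι]; exact hx₀
  haveI : Nonempty (f.fiber y) := ⟨z₀⟩
  obtain ⟨z, hz⟩ : (closedPoints (f.fiber y)).Nonempty := by
    by_contra hne
    rw [Set.not_nonempty_iff_eq_empty] at hne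
    have := closure_closedPoints (X := f.fiber y)
    rw [hne, closure_empty] at this
    exact Set.empty_ne_univ this
  have hmem : f.fiberι y z ∈ f ⁻¹' {y} := by rw [← f.range_fiberι]; exact ⟨z, rfl⟩
  refine ⟨f.fiberι y z, hmem, fun x' hx' hs => ?_⟩
  obtain ⟨z', rfl⟩ : x' ∈ Set.range (f.fiberι y) := by rw [f.range_fiberι]; exact hx'.trans hmem
  have hs' : z ⤳ z' := (f.fiberι y).isEmbedding.isInducing.specializes_iff.1 hs
  have hz' : IsClosed ({z} : Set (f.fiber y)) := hz
  have : z' ∈ ({z} : Set (f.fiber y)) := hz'.closure_eq ▸ specializes_iff_mem_closure.1 hs'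
  rw [Set.mem_singleton_iff.1 this]

/-- A ring map into an overfield gives a map into a localisation of a subring containing enough. -/
theorem exists_factor_away {B Ω : Type u} [CommRing B] [Field Ω] {A : Type u} [CommRing A] [Algebra A Ω]
    (C : Subalgebra A Ω) (φ : B →+* Ω) (c : C) (hc : c ≠ 0) (h : ∀ x, ∃ m : ℕ, (c : Ω) ^ m * φ x ∈ C) :
    ∃ (ψ : B →+* Localization.Away c) (j : Localization.Away c →+* Ω), Function.Injective j ∧
      j.comp (algebraMap C _) = C.val.toRingHom ∧ j.comp ψ = φ := by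
  have hc' : (c : Ω) ≠ 0 := fun h' => hc (Subtype.ext h')
  let j : Localization.Away c →+* Ω := IsLocalization.Away.lift c (g := C.val.toRingHom) (isUnit_iff_ne_zero.2 hc')
  have hjc : j.comp (algebraMap C _) = C.val.toRingHom := IsLocalization.lift_comp _
  have hj : Function.Injective j := by
    refine (IsLocalization.lift_injective_iff _).2 fun x y => ?_
    constructor
    · intro e
      have := congrArg j e
      rwa [← RingHom.comp_apply, ← RingHom.comp_apply, hjc] at this
    · intro e
      rw [show x = y from Subtype.ext e]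
  choose m hm using h
  have hr : ∀ x, ∃ z, j z = φ x := fun x => by
    refine ⟨IsLocalization.mk' (M := Submonoid.powers c) (Localization.Away c) (⟨_, hm x⟩ : C) ⟨c ^ m x, m x, rfl⟩, ?_⟩
    have e := congrArg j (IsLocalization.mk'_spec (Localization.Away c) (⟨_, hm x⟩ : C)
      (⟨c ^ m x, m x, rfl⟩ : Submonoid.powers c))
    rw [map_mul, ← RingHom.comp_apply j, ← RingHom.comp_apply j, hjc] at e
    refine mul_right_cancel₀ (pow_ne_zero (m x) hc') (e.trans ?_)
    show (c : Ω) ^ m x * φ x = φ x * (c : Ω) ^ m x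
    ring
  choose z hz using hr
  refine ⟨{ toFun := z
            map_one' := hj (by simp [hz])
            map_mul' := fun a b => hj (by simp [hz])
            map_zero' := hj (by simp [hz])
            map_add' := fun a b => hj (by simp [hz]) }, j, hj, hjc, RingHom.ext hz⟩

set_option maxHeartbeats 1600000 in
/-- The quasi-section over an affine neighbourhood, as a ring map. -/
theorem exists_affine_quasiSection {X : Scheme.{u}} {R : CommRingCat.{u}} [IsDomain R] [IsNoetherianRing R]
    (f : X ⟶ Spec R) [LocallyOfFiniteType f] [UniversallyOpen f] [Surjective f] (p : PrimeSpectrum R) :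
    ∃ (S : CommRingCat.{u}) (φ : R ⟶ S) (g : Spec S ⟶ X) (b : PrimeSpectrum S),
      IsDomain S ∧ φ.hom.FiniteType ∧ φ.hom.QuasiFinite ∧ Function.Injective φ.hom ∧
        PrimeSpectrum.comap φ.hom b = p ∧ g ≫ f = Spec.map φ := by
  haveI : IsLocallyNoetherian (Spec R) := inferInstance
  obtain ⟨x, hx, hcl⟩ := exists_closed_in_fibre f (p : Spec R)
  obtain ⟨T, i, hi, hirr, hred, ⟨t, ht⟩, hlft, hlqf, hqc, hdom⟩ :=
    UnivOpen.exists_quasiSection_of_univOpen f (fun z _ U hU => f.isOpenMap.image_mem_nhds hU) hcl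
  haveI := hirr
  haveI := hred
  haveI := hlft
  haveI := hlqf
  haveI := hdom
  haveI : IsIntegral T := isIntegral_of_irreducibleSpace_of_isReduced T
  obtain ⟨V, hV, htV, -⟩ := exists_isAffineOpen_mem_and_subset (x := t) (U := (⊤ : T.Opens)) trivial
  haveI : Nonempty V := ⟨⟨t, htV⟩⟩
  haveI : IsDomain Γ(T, V) := inferInstance
  let g : Spec Γ(T, V) ⟶ Spec R := hV.fromSpec ≫ i ≫ f
  let φ : R ⟶ Γ(T, V) := Spec.preimage g
  have hφ : Spec.map φ = g := Spec.map_preimage g
  refine ⟨Γ(T, V), φ, hV.fromSpec ≫ i, hV.primeIdealOf ⟨t, htV⟩, inferInstance, ?_, ?_, ?_, ?_, ?_⟩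
  · have : LocallyOfFiniteType (Spec.map φ) := by rw [hφ]; infer_instance
    exact (HasRingHomProperty.Spec_iff (P := @LocallyOfFiniteType)).1 this
  · have : LocallyQuasiFinite (Spec.map φ) := by
      rw [hφ]
      haveI : LocallyQuasiFinite hV.fromSpec := inferInstance
      show LocallyQuasiFinite (hV.fromSpec ≫ i ≫ f)
      infer_instance
    exact (HasRingHomProperty.Spec_iff (P := @LocallyQuasiFinite)).1 this
  · have hd : IsDominant (Spec.map φ) := by
      haveI : IsDominant hV.fromSpec := ⟨by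
        rw [denseRange_iff_closure_range, hV.range_fromSpec]
        exact (V.isOpen.dense ⟨t, htV⟩).closure_eq⟩
      rw [hφ]
      show IsDominant (hV.fromSpec ≫ i ≫ f)
      infer_instance
    have hd' : DenseRange (PrimeSpectrum.comap φ.hom) := hd.denseRange
    rw [PrimeSpectrum.denseRange_comap_iff_ker_le_nilRadical, nilradical_eq_zero] at hd'
    exact (RingHom.injective_iff_ker_eq_bot _).2 (le_bot_iff.1 hd')
  · have e : Spec.map φ (hV.primeIdealOf ⟨t, htV⟩) = p := by
      rw [hφ]
      show (hV.fromSpec ≫ i ≫ f) _ = _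
      rw [Scheme.Hom.comp_apply, hV.fromSpec_primeIdealOf, Scheme.Hom.comp_apply]
      exact (congrArg f ht).trans hx
    exact e
  · rw [Category.assoc, hφ]

end Geometric

section Main

set_option maxHeartbeats 1600000 in
/-- The use of Zariski's main theorem on a quasi-finite stage. -/
theorem exists_stage {A A₁ S Ω : Type u} [CommRing A] [CommRing A₁] [IsDomain A₁] [Algebra A A₁]
    [Algebra.IsIntegral A A₁] [CommRing S] [IsDomain S] [Algebra A₁ S] [Field Ω] [IsAlgClosed Ω]
    [Algebra A Ω] [Algebra A₁ Ω] [IsScalarTower A A₁ Ω] [FaithfulSMul A₁ Ω]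
    (hft : (algebraMap A₁ S).FiniteType) (hqf : (algebraMap A₁ S).QuasiFinite)
    (hinj : Function.Injective (algebraMap A₁ S)) (b : Ideal S) [b.IsPrime] :
    ∃ (e : S →ₐ[A₁] Ω) (r : S) (hr : IsIntegral A (e r)),
      (∀ x : S, ∃ m : ℕ, IsIntegral A (e r ^ m * e x)) ∧
      ∃ q' : Ideal (integralClosure A Ω), q'.IsPrime ∧ (⟨e r, hr⟩ : integralClosure A Ω) ∉ q' ∧
        ∀ (a : A₁) (x : integralClosure A Ω), algebraMap A₁ Ω a = x → (x ∈ q' ↔ algebraMap A₁ S a ∈ b) := by
  haveI : Algebra.FiniteType A₁ S := RingHom.finiteType_algebraMap.1 hft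
  haveI : Algebra.QuasiFinite A₁ S := RingHom.quasiFinite_algebraMap.1 hqf
  obtain ⟨r, hrb, hr, hm⟩ := Algebra.zariskisMainProperty_iff.1
    (Algebra.ZariskisMainProperty.of_finiteType (R := A₁) b)
  have hr0 : r ≠ 0 := fun h => hrb (h ▸ b.zero_mem)
  haveI : FaithfulSMul A₁ S := (faithfulSMul_iff_algebraMap_injective A₁ S).2 hinj
  haveI : Algebra.IsAlgebraic A₁ S := ⟨fun x => by
    obtain ⟨m, hmx⟩ := hm x
    exact IsAlgebraic.of_mul (mem_nonZeroDivisors_of_ne_zero (pow_ne_zero m hr0)) (hr.pow m).isAlgebraic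
      hmx.isAlgebraic⟩
  haveI : Module.IsTorsionFree A₁ S := Module.isTorsionFree_iff_algebraMap_injective.2 hinj
  haveI : Module.IsTorsionFree A₁ Ω := Module.isTorsionFree_iff_algebraMap_injective.2
    (FaithfulSMul.algebraMap_injective A₁ Ω)
  let e : S →ₐ[A₁] Ω := IsAlgClosed.lift
  have hint : ∀ x : S, IsIntegral A₁ x → IsIntegral A (e x) := fun x hx => isIntegral_trans _ (hx.map e)
  have he : Function.Injective e := by
    refine (injective_iff_map_eq_zero e).2 fun x hx => ?_
    by_contra hx0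
    obtain ⟨a, ha, y, hy⟩ := (Algebra.IsAlgebraic.isAlgebraic (R := A₁) x).exists_nonzero_dvd
      (mem_nonZeroDivisors_of_ne_zero hx0)
    have := congrArg e hy
    rw [AlgHom.commutes, map_mul, hx, zero_mul, map_eq_zero_iff _ (FaithfulSMul.algebraMap_injective A₁ Ω)] at this
    exact ha this
  let R' := integralClosure A₁ S
  let θ : R' →+* integralClosure A Ω := RingHom.codRestrict (e.toRingHom.comp R'.val.toRingHom)
    (integralClosure A Ω).toSubring fun x => hint _ x.2
  have hθinj : Function.Injective θ := fun x y h => Subtype.ext (he (congrArg Subtype.val h))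
  letI : Algebra R' (integralClosure A Ω) := θ.toAlgebra
  haveI : Algebra.IsIntegral R' (integralClosure A Ω) := ⟨fun z => by
    obtain ⟨P, hP, hPz⟩ := z.2
    refine ⟨P.map ((algebraMap A₁ R').comp (algebraMap A A₁)), hP.map _, ?_⟩
    rw [Polynomial.eval₂_map]
    refine Subtype.val_injective ?_
    refine ((Polynomial.hom_eval₂ P _ (integralClosure A Ω).val.toRingHom z).trans ?_).trans hPz
    congr 1
    refine RingHom.ext fun a => ?_
    show e (algebraMap A₁ S (algebraMap A A₁ a)) = algebraMap A Ω a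
    rw [AlgHom.commutes, ← IsScalarTower.algebraMap_apply]⟩
  let P₀ : Ideal R' := b.comap R'.val.toRingHom
  haveI : P₀.IsPrime := Ideal.IsPrime.comap _
  obtain ⟨q', -, hq', hq'b⟩ := Ideal.exists_ideal_over_prime_of_isIntegral (S := integralClosure A Ω)
    P₀ (⊥ : Ideal (integralClosure A Ω)) (by
      intro x hx
      have hx0 : θ x = 0 := Ideal.mem_bot.1 (Ideal.mem_comap.1 hx)
      rw [show x = 0 from hθinj (hx0.trans (map_zero θ).symm)]
      exact P₀.zero_mem)
  refine ⟨e, r, hint r hr, fun x => ?_, q', hq', fun h => hrb ((SetLike.ext_iff.1 hq'b ⟨r, hr⟩).1 h), fun a x hax => ?_⟩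
  · obtain ⟨m, hmx⟩ := hm x
    exact ⟨m, by rw [← map_pow, ← map_mul]; exact hint _ hmx⟩
  · have hx : x = θ (algebraMap A₁ R' a) := Subtype.ext (hax.symm.trans (e.commutes a).symm)
    rw [hx]
    exact SetLike.ext_iff.1 hq'b (algebraMap A₁ R' a)

set_option maxHeartbeats 3200000 in
set_option synthInstance.maxHeartbeats 400000 in
/-- After passing to the integral closure of the base in an algebraically closed field, a universally
open surjection has sections locally. -/
theorem exists_local_section {A Ω : Type u} [CommRing A] [IsDomain A] [IsNoetherianRing A] [Field Ω] [IsAlgClosed Ω]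
    [Algebra A Ω] [FaithfulSMul A Ω] [Algebra.IsAlgebraic A Ω] {X : Scheme.{u}} (f : X ⟶ Spec (CommRingCat.of A))
    [LocallyOfFiniteType f] [UniversallyOpen f] [Surjective f]
    (q : Ideal (integralClosure A Ω)) [hq : q.IsPrime] :
    ∃ c : integralClosure A Ω, c ∉ q ∧ ∃ g : Spec (CommRingCat.of (Localization.Away c)) ⟶ X,
      g ≫ f = Spec.map (CommRingCat.ofHom (algebraMap A (Localization.Away c))) := by
  classical
  let K := FractionRing A
  letI : Algebra K Ω := FractionRing.liftAlgebra A Ω
  haveI : IsScalarTower A K Ω := FractionRing.isScalarTower_liftAlgebra A Ω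
  haveI : Algebra.IsAlgebraic K Ω := Algebra.IsAlgebraic.extendScalars (R := A) (IsFractionRing.injective A K)
  haveI : IsAlgClosure K Ω := ⟨inferInstance, inferInstance⟩
  haveI : Normal K Ω := IsAlgClosure.normal K Ω
  let p := q.comap (algebraMap A (integralClosure A Ω))
  obtain ⟨A₁, hA₁fg, hA₁K, hsep⟩ := exists_separating (A := A) (K := K) (Ω := Ω) p
  let α := A₁.val.toRingHom
  letI : Algebra A₁ Ω := ((integralClosure A Ω).val.toRingHom.comp α).toAlgebra
  haveI : Algebra.FiniteType A A₁ := A₁.fg_iff_finiteType.1 hA₁fg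
  haveI : IsNoetherianRing A₁ := Algebra.FiniteType.isNoetherianRing A A₁
  haveI : IsScalarTower A A₁ Ω := IsScalarTower.of_algebraMap_eq fun a => rfl
  haveI : FaithfulSMul A₁ Ω := (faithfulSMul_iff_algebraMap_injective A₁ Ω).2
    (Subtype.val_injective.comp Subtype.val_injective)
  haveI : IsDomain (CommRingCat.of A₁) := inferInstanceAs (IsDomain A₁)
  haveI : IsNoetherianRing (CommRingCat.of A₁) := inferInstanceAs (IsNoetherianRing A₁)
  let σ₁ := Spec.map (CommRingCat.ofHom (algebraMap A A₁))
  let q₁ : PrimeSpectrum A₁ := ⟨q.comap α, Ideal.IsPrime.comap _⟩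
  haveI : Surjective (pullback.snd f σ₁) := inferInstance
  obtain ⟨S, φ, g, b, hS, hft, hqf, hinj, hb, hg⟩ :=
    exists_affine_quasiSection (R := CommRingCat.of A₁) (pullback.snd f σ₁) q₁
  haveI := hS
  letI : Algebra A₁ S := φ.hom.toAlgebra
  haveI : Algebra.IsIntegral A A₁ := ⟨fun x =>
    (isIntegral_algHom_iff A₁.val Subtype.val_injective).1 (Algebra.IsIntegral.isIntegral _)⟩
  obtain ⟨e, r, hrint, hm, q', hq', hrq', hq'b⟩ := exists_stage (A := A) (A₁ := A₁) (S := S) (Ω := Ω)
    hft hqf hinj b.asIdeal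
  haveI := hq'
  have hA₁ : ∀ x ∈ A₁, x ∈ q ↔ x ∈ q' := fun x hx => by
    have h1 : x ∈ q ↔ φ.hom ⟨x, hx⟩ ∈ b.asIdeal :=
      (SetLike.ext_iff.1 (congrArg PrimeSpectrum.asIdeal hb) ⟨x, hx⟩).symm
    exact h1.trans ((hq'b ⟨x, hx⟩ x rfl).symm)
  have hcomap := hsep q q' hq hq' rfl hA₁
  -- the finite normal field
  haveI : Algebra.FiniteType A₁ S := hft
  obtain ⟨G, hG⟩ := (Algebra.FiniteType.out : (⊤ : Subalgebra A₁ S).FG)
  let M : IntermediateField K Ω := IntermediateField.adjoin K (e '' (G : Set S))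
  haveI : FiniteDimensional K M := IntermediateField.finiteDimensional_adjoin fun x _ =>
    (Algebra.IsAlgebraic.isAlgebraic x).isIntegral
  let L : IntermediateField K Ω := IntermediateField.normalClosure K M Ω
  have hML : ∀ x : S, e x ∈ L := fun x => by
    refine M.le_normalClosure ?_
    have hle : Algebra.adjoin A₁ (G : Set S) ≤
        ({ carrier := {x | e x ∈ M}
           mul_mem' := fun ha hb => by simp only [Set.mem_setOf_eq, map_mul] at *; exact M.mul_mem ha hb
           add_mem' := fun ha hb => by simp only [Set.mem_setOf_eq, map_add] at *; exact M.add_mem ha hb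
           one_mem' := by simp
           zero_mem' := by simp
           algebraMap_mem' := fun a => by
             simp only [Set.mem_setOf_eq, AlgHom.commutes]
             obtain ⟨k, hk⟩ := hA₁K a.1 a.2
             show ((a.1 : integralClosure A Ω) : Ω) ∈ M
             rw [← hk]
             exact M.algebraMap_mem k } : Subalgebra A₁ S) :=
      Algebra.adjoin_le fun x hx => IntermediateField.subset_adjoin K _ ⟨x, hx, rfl⟩
    exact hle (hG ▸ Algebra.mem_top)
  obtain ⟨τ, hτ⟩ := exists_conj q q' hcomap L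
  let c : integralClosure A Ω := act τ ⟨e r, hrint⟩
  have hcq : c ∉ q := by
    intro hc
    exact hrq' ((hτ ⟨e r, hrint⟩ (hML r)).1 hc)
  refine ⟨c, hcq, ?_⟩
  obtain ⟨ψ, j, hj, hjc, hjψ⟩ := exists_factor_away (integralClosure A Ω)
    (τ.toRingEquiv.toRingHom.comp e.toRingHom) c (fun h => hcq (h ▸ q.zero_mem)) fun x => by
      obtain ⟨m, hmx⟩ := hm x
      refine ⟨m, ?_⟩
      have : τ (e r ^ m * e x) ∈ integralClosure A Ω := (act τ ⟨_, hmx⟩).2
      rw [map_mul, map_pow] at this
      exact this
  refine ⟨Spec.map (CommRingCat.ofHom ψ) ≫ g ≫ pullback.fst f σ₁, ?_⟩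
  rw [Category.assoc, Category.assoc, pullback.condition, ← Category.assoc g, hg, ← Spec.map_comp, ← Spec.map_comp]
  congr 1
  refine CommRingCat.hom_ext (RingHom.ext fun a => hj ?_)
  show (j.comp ψ) (φ.hom (algebraMap A A₁ a)) = j (algebraMap A (Localization.Away c) a)
  rw [hjψ, IsScalarTower.algebraMap_apply A (integralClosure A Ω) (Localization.Away c), ← RingHom.comp_apply j, hjc]
  show τ (e (algebraMap A₁ S (algebraMap A A₁ a))) = algebraMap A Ω a
  rw [AlgHom.commutes, ← IsScalarTower.algebraMap_apply A A₁ Ω, IsScalarTower.algebraMap_apply A K Ω, τ.commutes]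

end Main

end Groth.Agent.UnivOpenSec
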