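import Mathlib

/-!
# Primes of an integral closure in a normal extension
-/

set_option autoImplicit false
set_option linter.unusedSectionVars false
set_option linter.style.haveILetI false

universe u

open Polynomial

namespace Groth.Agent.UnivOpenSec

variable {K L : Type u} [Field K] [Field L] [Algebra K L] [Normal K L]

/-- An element fixed by all automorphisms of a normal extension has a power in the base. -/
theorem exists_pow_mem_range_of_fixed (x : L) (h : ∀ σ : L ≃ₐ[K] L, σ x = x) :
    ∃ d : ℕ, 0 < d ∧ ∃ k : K, algebraMap K L k = x ^ d := by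
  have hi : IsIntegral K x := Normal.isIntegral ‹_› x
  have hsp : ((minpoly K x).map (algebraMap K L)).Splits := Normal.splits ‹_› x
  have hroots : ∀ r ∈ ((minpoly K x).map (algebraMap K L)).roots, r = x := by
    intro r hr
    have hr' : aeval r (minpoly K x) = 0 := by
      have := Polynomial.isRoot_of_mem_roots hr
      rwa [IsRoot, eval_map_algebraMap] at this
    obtain ⟨σ, hσ⟩ := (Normal.minpoly_eq_iff_mem_orbit (F := K) (x := r) (y := x)).1
      (minpoly.eq_of_irreducible_of_monic (minpoly.irreducible hi) hr' (minpoly.monic hi)).symm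
    rw [← hσ]
    exact h σ
  refine ⟨(minpoly K x).natDegree, minpoly.natDegree_pos hi, (-1) ^ (minpoly K x).natDegree * (minpoly K x).coeff 0, ?_⟩
  have hc := congrArg (fun p => Polynomial.coeff p 0) (hsp.eq_prod_roots_of_monic ((minpoly.monic hi).map _))
  rw [Multiset.eq_replicate.2 ⟨rfl, hroots⟩] at hc
  simp only [coeff_map, Multiset.map_replicate, Multiset.prod_replicate] at hc
  rw [hsp.natDegree_eq_card_roots.symm, natDegree_map] at hc
  rw [coeff_zero_eq_eval_zero ((X - C x) ^ _), eval_pow, eval_sub, eval_X, eval_C, zero_sub] at hc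
  rw [map_mul, map_pow, map_neg, map_one, hc, ← mul_pow]
  simp

variable {A : Type u} [CommRing A] [Algebra A K] [Algebra A L] [IsScalarTower A K L]

/-- The action of an automorphism on an integral closure. -/
def act (σ : L ≃ₐ[K] L) : integralClosure A L →ₐ[A] integralClosure A L :=
  (σ.toAlgHom.restrictScalars A).mapIntegralClosure

@[simp] theorem coe_act (σ : L ≃ₐ[K] L) (x : integralClosure A L) : (act σ x : L) = σ (x : L) := rfl

/-- The inclusion of the integral closure in the smaller field. -/
def incl : integralClosure A K →ₐ[A] integralClosure A L :=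
  ((Algebra.ofId K L).restrictScalars A).mapIntegralClosure

@[simp] theorem coe_incl (x : integralClosure A K) : (incl x : integralClosure A L).1 = algebraMap K L x := rfl

/-- Primes with the same trace on the integral closure in the base are conjugate. -/
theorem exists_act_le [FiniteDimensional K L] (q q' : Ideal (integralClosure A L)) [q.IsPrime] [q'.IsPrime]
    (h : q.comap (incl (K := K)) = q'.comap (incl (K := K))) :
    ∃ σ : L ≃ₐ[K] L, q'.comap (act σ) = q := by
  classical
  haveI := Fintype.ofFinite (L ≃ₐ[K] L)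
  obtain ⟨σ, hσ⟩ : ∃ σ : L ≃ₐ[K] L, q ≤ q'.comap (act σ) := by
    by_contra hne
    push Not at hne
    have : ¬ (q : Set (integralClosure A L)) ⊆
        ⋃ σ ∈ ((Finset.univ : Finset (L ≃ₐ[K] L)) : Set (L ≃ₐ[K] L)), (q'.comap (act σ) : Set _) := by
      rw [Ideal.subset_union_prime 1 1 fun σ _ _ _ => Ideal.IsPrime.comap _]
      rintro ⟨σ, -, hle⟩
      exact hne σ hle
    obtain ⟨x, hxq, hx⟩ := Set.not_subset.1 this
    simp only [Finset.coe_univ, Set.mem_univ, Set.iUnion_true, Set.mem_iUnion, not_exists] at hx
    let N : integralClosure A L := ∏ σ : L ≃ₐ[K] L, act σ x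
    have hN : (N : L) = ∏ σ : L ≃ₐ[K] L, σ (x : L) :=
      (map_prod (integralClosure A L).val _ _).trans (Finset.prod_congr rfl fun σ _ => rfl)
    have hfix : ∀ τ : L ≃ₐ[K] L, τ (N : L) = N := by
      intro τ
      rw [hN, map_prod]
      exact Fintype.prod_equiv (Equiv.mulLeft τ) _ _ fun σ => rfl
    obtain ⟨d, hd, k, hk⟩ := exists_pow_mem_range_of_fixed (N : L) hfix
    have hki : IsIntegral A k := by
      refine (isIntegral_algHom_iff ((Algebra.ofId K L).restrictScalars A) (algebraMap K L).injective).1 ?_
      show IsIntegral A (algebraMap K L k)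
      rw [hk]
      exact N.2.pow d
    have hkN : incl (K := K) ⟨k, hki⟩ = N ^ d := Subtype.ext (by rw [coe_incl, SubmonoidClass.coe_pow]; exact hk)
    have hNq : N ∈ q := by
      show (∏ σ : L ≃ₐ[K] L, act σ x) ∈ q
      refine Ideal.prod_mem q (Finset.mem_univ (1 : L ≃ₐ[K] L)) ?_
      rwa [show act (1 : L ≃ₐ[K] L) x = x from Subtype.ext rfl]
    have hmem : (⟨k, hki⟩ : integralClosure A K) ∈ q.comap (incl (K := K)) := by
      rw [Ideal.mem_comap, hkN]; exact Ideal.pow_mem_of_mem q hNq d hd
    rw [h, Ideal.mem_comap, hkN] at hmem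
    obtain ⟨σ, -, hσ⟩ := Ideal.IsPrime.prod_mem_iff.1 (‹q'.IsPrime›.mem_of_pow_mem d hmem)
    exact hx σ hσ
  refine ⟨σ, (eq_of_le_of_not_lt hσ fun hlt => ?_).symm⟩
  letI : Algebra (integralClosure A K) (integralClosure A L) := (incl (K := K)).toRingHom.toAlgebra
  haveI : IsScalarTower A (integralClosure A K) (integralClosure A L) :=
    IsScalarTower.of_algebraMap_eq fun a => ((incl (K := K) (A := A) (L := L)).commutes a).symm
  haveI : Algebra.IsIntegral (integralClosure A K) (integralClosure A L) :=
    Algebra.IsIntegral.tower_top A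
  have := Ideal.IsIntegral.comap_lt_comap (R := integralClosure A K) hlt
  refine this.ne ?_
  show q.comap (incl (K := K)) = (q'.comap (act σ)).comap (incl (K := K))
  rw [h]
  ext y
  show _ ↔ act σ (incl (K := K) y) ∈ q'
  rw [Ideal.mem_comap, show act σ (incl (K := K) y) = incl (K := K) y from Subtype.ext (σ.commutes _)]

end Groth.Agent.UnivOpenSec
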