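import Groth.Agent.UnivOpenSec.Core
import Groth.Agent.SGA1Q.SigmaFinite

/-!
# An integral cover of a Noetherian base with local sections of a universally open surjection
-/

set_option autoImplicit false
set_option linter.style.haveILetI false
set_option linter.unusedSectionVars false
set_option backward.isDefEq.respectTransparency false
set_option backward.isDefEq.respectTransparency.types false

universe u

open AlgebraicGeometry CategoryTheory Limits Polynomial

namespace Groth.Agent.UnivOpenSec

set_option maxHeartbeats 1600000 in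
/-- The local sections over the integral closure in a field, for a ring which need not be a domain. -/
theorem exists_local_section_field {A Ω : Type u} [CommRing A] [IsNoetherianRing A] [Field Ω] [IsAlgClosed Ω]
    [Algebra A Ω] (halg : ∀ x : Ω, ∃ P : A[X], P.map (algebraMap A Ω) ≠ 0 ∧ aeval x P = 0)
    {X : Scheme.{u}} (f : X ⟶ Spec (CommRingCat.of A))
    [LocallyOfFiniteType f] [UniversallyOpen f] [Surjective f]
    (q : Ideal (integralClosure A Ω)) [hq : q.IsPrime] :
    ∃ c : integralClosure A Ω, c ∉ q ∧ ∃ g : Spec (CommRingCat.of (Localization.Away c)) ⟶ X,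
      g ≫ f = Spec.map (CommRingCat.ofHom (algebraMap A (Localization.Away c))) := by
  classical
  let P := RingHom.ker (algebraMap A Ω)
  haveI : P.IsPrime := RingHom.ker_isPrime _
  letI : Algebra (A ⧸ P) Ω := RingHom.toAlgebra (R := A ⧸ P) (S := Ω) (RingHom.kerLift (algebraMap A Ω))
  haveI : IsScalarTower A (A ⧸ P) Ω := IsScalarTower.of_algebraMap_eq fun _ => rfl
  haveI : FaithfulSMul (A ⧸ P) Ω :=
    (faithfulSMul_iff_algebraMap_injective _ _).2 (RingHom.kerLift_injective _)
  haveI : Algebra.IsAlgebraic (A ⧸ P) Ω := ⟨fun x => by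
    obtain ⟨R, hR, hx⟩ := halg x
    refine ⟨R.map (algebraMap A (A ⧸ P)), fun h => hR ?_, by rwa [aeval_map_algebraMap]⟩
    rw [IsScalarTower.algebraMap_eq A (A ⧸ P) Ω, ← Polynomial.map_map, h, Polynomial.map_zero]⟩
  let π := CommRingCat.ofHom (algebraMap A (A ⧸ P))
  haveI : IsNoetherianRing (A ⧸ P) := inferInstance
  haveI : IsDomain (A ⧸ P) := Ideal.Quotient.isDomain P
  let u : integralClosure (A ⧸ P) Ω →+* integralClosure A Ω :=
    RingHom.codRestrict (integralClosure (A ⧸ P) Ω).val.toRingHom (integralClosure A Ω).toSubring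
      fun x => isIntegral_trans (R := A) _ x.2
  have hu : Function.Surjective u := fun x => ⟨⟨x, x.2.tower_top⟩, rfl⟩
  haveI : (q.comap u).IsPrime := Ideal.IsPrime.comap _
  obtain ⟨c, hc, g, hg⟩ := exists_local_section (A := A ⧸ P) (Ω := Ω) (pullback.snd f (Spec.map π)) (q.comap u)
  refine ⟨u c, hc, Spec.map (CommRingCat.ofHom (IsLocalization.Away.map (Localization.Away c)
    (Localization.Away (u c)) u c)) ≫ g ≫ pullback.fst f (Spec.map π), ?_⟩
  rw [Category.assoc, Category.assoc, pullback.condition, ← Category.assoc g, hg, ← Spec.map_comp, ← Spec.map_comp]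
  congr 1
  refine CommRingCat.hom_ext (RingHom.ext fun a => ?_)
  show IsLocalization.Away.map (Localization.Away c) (Localization.Away (u c)) u c
    (algebraMap (A ⧸ P) (Localization.Away c) (algebraMap A (A ⧸ P) a)) = _
  rw [IsScalarTower.algebraMap_apply (A ⧸ P) (integralClosure (A ⧸ P) Ω) (Localization.Away c),
    IsLocalization.Away.map, IsLocalization.map_eq,
    show (CommRingCat.Hom.hom (CommRingCat.ofHom (algebraMap A (Localization.Away (u c))))) a =
      algebraMap (integralClosure A Ω) (Localization.Away (u c)) (algebraMap A (integralClosure A Ω) a) from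
      IsScalarTower.algebraMap_apply A (integralClosure A Ω) (Localization.Away (u c)) a]
  exact congrArg _ (Subtype.ext rfl)

/-- Functions on an affine neighbourhood compute the residue field. -/
theorem exists_frac_residueField {Y : Scheme.{u}} {U : Y.Opens} (hU : IsAffineOpen U) {η : Y} (hη : η ∈ U)
    (k : Y.residueField η) :
    ∃ a b : Γ(Y, U), Y.evaluation U η hη b ≠ 0 ∧ k * Y.evaluation U η hη b = Y.evaluation U η hη a := by
  obtain ⟨s, rfl⟩ := Y.residue_surjective η k
  letI := Y.presheaf.algebra_section_stalk ⟨η, hη⟩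
  haveI := hU.isLocalization_stalk ⟨η, hη⟩
  obtain ⟨⟨a, b⟩, hab⟩ := IsLocalization.surj (hU.primeIdealOf ⟨η, hη⟩).asIdeal.primeCompl s
  refine ⟨a, b, ?_, ?_⟩
  · intro h
    have hunit : IsUnit (Y.presheaf.germ U η hη b) := IsLocalization.map_units (Y.presheaf.stalk η) b
    exact (hunit.map (Y.residue η).hom).ne_zero h
  · exact ((map_mul (Y.residue η).hom s _).symm.trans (congrArg (Y.residue η).hom hab))

/-- Sections pulled back to a point of a field. -/
theorem app_fromSpecStalk {Y : Scheme.{u}} {R : CommRingCat.{u}} (η : Y) (φ : Y.presheaf.stalk η ⟶ R)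
    (g : Spec R ⟶ Y) (hg : g = Spec.map φ ≫ Y.fromSpecStalk η) (U : Y.Opens) (hU : η ∈ U)
    (e : ⊤ = g ⁻¹ᵁ U) :
    g.app U ≫ (Spec R).presheaf.map (eqToHom e).op ≫ (Scheme.ΓSpecIso R).hom =
      Y.presheaf.germ U η hU ≫ φ := by
  subst hg
  rw [Scheme.Hom.comp_app, Scheme.fromSpecStalk_app hU]
  simp only [Category.assoc]
  rw [Scheme.Hom.naturality_assoc, ← Functor.map_comp_assoc]
  have hn := Scheme.ΓSpecIso_naturality φ
  rw [Scheme.Hom.app_eq_appLE, ← Category.assoc ((Spec.map φ).appLE _ _ _), Scheme.Hom.appLE_map]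
  rw [Scheme.Hom.appTop, Scheme.Hom.app_eq_appLE] at hn
  erw [hn]
  rw [Iso.inv_hom_id_assoc]

variable {Y : Scheme.{u}} (η : Y)

/-- A geometric point over a point. -/
noncomputable abbrev geomPt : Spec (CommRingCat.of (AlgebraicClosure (Y.residueField η))) ⟶ Y :=
  Spec.map (CommRingCat.ofHom (algebraMap (Y.residueField η) (AlgebraicClosure (Y.residueField η)))) ≫
    Y.fromSpecResidueField η

theorem geomPt_apply (z : Spec (CommRingCat.of (AlgebraicClosure (Y.residueField η)))) : geomPt η z = η := by
  rw [Scheme.Hom.comp_apply]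
  exact Scheme.fromSpecResidueField_apply η _

theorem range_fromNormalization_geomPt [IsLocallyNoetherian Y] :
    Set.range (geomPt η).fromNormalization = closure {η} := by
  haveI : QuasiCompact (geomPt η) := inferInstance
  apply subset_antisymm
  · rintro _ ⟨q, rfl⟩
    have hd : q ∈ closure (Set.range (geomPt η).toNormalization) := (geomPt η).toNormalization.denseRange q
    refine closure_mono ?_ ((image_closure_subset_closure_image (geomPt η).fromNormalization.continuous)
      ⟨q, hd, rfl⟩)
    rintro _ ⟨_, ⟨z, rfl⟩, rfl⟩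
    rw [← Scheme.Hom.comp_apply, Scheme.Hom.toNormalization_fromNormalization]
    exact geomPt_apply η z
  · refine closure_minimal (Set.singleton_subset_iff.2 ?_) (geomPt η).fromNormalization.isClosedMap.isClosed_range
    let z : Spec (CommRingCat.of (AlgebraicClosure (Y.residueField η))) := default
    exact ⟨(geomPt η).toNormalization z, by
      rw [← Scheme.Hom.comp_apply, Scheme.Hom.toNormalization_fromNormalization, geomPt_apply]⟩

set_option maxHeartbeats 1600000 in
/-- Local sections on the normalisation in a geometric point. -/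
theorem exists_section_geomPt [IsLocallyNoetherian Y] {X : Scheme.{u}} (f : X ⟶ Y) [LocallyOfFiniteType f]
    [UniversallyOpen f] [Surjective f] (q : (geomPt η).normalization) :
    ∃ V : (geomPt η).normalization.Opens, q ∈ V ∧
      ∃ s : (V : Scheme.{u}) ⟶ X, s ≫ f = V.ι ≫ (geomPt η).fromNormalization := by
  classical
  let gp := geomPt η
  let y := gp.fromNormalization q
  obtain ⟨U, hU, hyU, -⟩ := exists_isAffineOpen_mem_and_subset (x := y) (U := (⊤ : Y.Opens)) trivial
  have hηy : η ⤳ y := specializes_iff_mem_closure.2 (range_fromNormalization_geomPt η ▸ Set.mem_range_self q)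
  have hηU : η ∈ U := hηy.mem_open U.isOpen hyU
  have htop : gp ⁻¹ᵁ U = ⊤ := top_le_iff.1 fun z _ => by
    show gp z ∈ U
    rw [geomPt_apply]; exact hηU
  letI := (gp.app U).hom.toAlgebra
  let Ω := Γ(Spec (CommRingCat.of (AlgebraicClosure (Y.residueField η))), gp ⁻¹ᵁ U)
  let iso : Ω ≅ CommRingCat.of (AlgebraicClosure (Y.residueField η)) :=
    (Spec _).presheaf.mapIso (eqToIso htop.symm).op ≪≫ Scheme.ΓSpecIso _
  let ε := iso.commRingCatIsoToRingEquiv
  letI : Field Ω := (MulEquiv.isField (Field.toIsField _) ε.toMulEquiv).toField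
  haveI : IsAlgClosed Ω := IsAlgClosed.of_ringEquiv _ _ ε.symm
  have hev : ∀ a : Γ(Y, U), ε (algebraMap Γ(Y, U) Ω a) =
      algebraMap (Y.residueField η) (AlgebraicClosure (Y.residueField η)) (Y.evaluation U η hηU a) := by
    intro a
    have h := app_fromSpecStalk η (Y.residue η ≫ CommRingCat.ofHom (algebraMap (Y.residueField η)
      (AlgebraicClosure (Y.residueField η)))) gp (by rw [Spec.map_comp, Category.assoc]; rfl) U hηU htop.symm
    exact congrArg (fun t => t.hom a) h
  haveI : IsNoetherianRing Γ(Y, U) := IsLocallyNoetherian.component_noetherian ⟨U, hU⟩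
  have halg : ∀ x : Ω, ∃ P : (Γ(Y, U))[X], P.map (algebraMap Γ(Y, U) Ω) ≠ 0 ∧ aeval x P = 0 := by
    intro x
    let ev : Γ(Y, U) →+* Y.residueField η := (Y.evaluation U η hηU).hom
    let R := ev.range
    haveI : Algebra.IsAlgebraic R (Y.residueField η) := ⟨fun k => by
      obtain ⟨a, b, hb, hk⟩ := exists_frac_residueField hU hηU k
      refine ⟨C (⟨ev b, b, rfl⟩ : R) * Polynomial.X - C ⟨ev a, a, rfl⟩, fun h => hb ?_, ?_⟩
      · have := congrArg (fun P => coeff P 1) h
        simp only [coeff_sub, coeff_C_mul, coeff_X_one, mul_one, coeff_C, one_ne_zero, if_false, sub_zero, coeff_zero] at this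
        exact congrArg Subtype.val this
      · rw [map_sub, map_mul, aeval_C, aeval_C, aeval_X]
        show ev b * k - ev a = 0
        rw [mul_comm]
        exact sub_eq_zero.2 hk⟩
    haveI : Algebra.IsAlgebraic R (AlgebraicClosure (Y.residueField η)) :=
      Algebra.IsAlgebraic.trans R (Y.residueField η) _
    obtain ⟨P₁, hP₁, hx⟩ := Algebra.IsAlgebraic.isAlgebraic (R := R) (ε x)
    obtain ⟨P, rfl⟩ := Polynomial.map_surjective ev.rangeRestrict ev.rangeRestrict_surjective P₁
    have hcomp : ε.toRingHom.comp (algebraMap Γ(Y, U) Ω) =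
        (algebraMap R (AlgebraicClosure (Y.residueField η))).comp ev.rangeRestrict := RingHom.ext fun a => hev a
    refine ⟨P, fun h => hP₁ ?_, ε.injective ?_⟩
    · refine Polynomial.map_injective (algebraMap R (AlgebraicClosure (Y.residueField η))) ?_ ?_
      · exact (algebraMap (Y.residueField η) _).injective.comp Subtype.val_injective
      · rw [Polynomial.map_map, ← hcomp, ← Polynomial.map_map, h, Polynomial.map_zero, Polynomial.map_zero]
    · rw [map_zero, aeval_def]
      show ε.toRingHom _ = _
      rw [Polynomial.hom_eval₂, hcomp, ← Polynomial.eval₂_map]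
      exact hx
  haveI : LocallyOfFiniteType (pullback.snd f hU.fromSpec) := inferInstance
  let j := gp.normalizationOpenCover.f ⟨U, hU⟩
  obtain ⟨q₀, hq₀⟩ : q ∈ j.opensRange := gp.fromNormalization_preimage ⟨U, hU⟩ ▸ (show q ∈ gp.fromNormalization ⁻¹ᵁ U from hyU)
  obtain ⟨c, hc, g, hg⟩ := exists_local_section_field halg (pullback.snd f hU.fromSpec)
    (q₀ : PrimeSpectrum (integralClosure Γ(Y, U) Ω)).asIdeal
  let l : Spec (CommRingCat.of (Localization.Away c)) ⟶ Spec (CommRingCat.of (integralClosure Γ(Y, U) Ω)) :=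
    Spec.map (CommRingCat.ofHom (algebraMap (integralClosure Γ(Y, U) Ω) (Localization.Away c)))
  haveI : IsOpenImmersion l := IsOpenImmersion.of_isLocalization c
  haveI : IsOpenImmersion j := inferInstance
  let m : Spec (CommRingCat.of (Localization.Away c)) ⟶ gp.normalization := l ≫ j
  refine ⟨m.opensRange, ?_, m.isoOpensRange.inv ≫ g ≫ pullback.fst f hU.fromSpec, ?_⟩
  · obtain ⟨z, hz⟩ : (q₀ : PrimeSpectrum (integralClosure Γ(Y, U) Ω)) ∈
        Set.range (PrimeSpectrum.comap (algebraMap (integralClosure Γ(Y, U) Ω) (Localization.Away c))) := by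
      rw [PrimeSpectrum.localization_away_comap_range (Localization.Away c) c]
      exact hc
    exact ⟨z, (congrArg j hz).trans hq₀⟩
  · rw [Category.assoc, Category.assoc, pullback.condition, ← Category.assoc g, hg, Iso.inv_comp_eq,
      ← Category.assoc, Scheme.Hom.isoOpensRange_hom_ι]
    show _ = (l ≫ gp.normalizationOpenCover.f ⟨U, hU⟩) ≫ gp.fromNormalization
    rw [Category.assoc, Scheme.Hom.ι_fromNormalization, ← Category.assoc, ← Spec.map_comp]
    rfl

/-- An integral cover with local sections. -/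
theorem exists_integral_local_sections {X Y : Scheme.{u}} [IsNoetherian Y] (f : X ⟶ Y)
    [LocallyOfFiniteType f] [UniversallyOpen f] [Surjective f] :
    ∃ (Z : Scheme.{u}) (ν : Z ⟶ Y), IsIntegralHom ν ∧ Surjective ν ∧
      ∀ z : Z, ∃ V : Z.Opens, z ∈ V ∧ ∃ s : (V : Scheme.{u}) ⟶ X, s ≫ f = V.ι ≫ ν := by
  classical
  let G := genericPoints Y
  haveI : Finite G := (genericPoints.equiv (α := Y)).finite_iff.2
    (Set.finite_coe_iff.2 TopologicalSpace.NoetherianSpace.finite_irreducibleComponents)
  let W : G → Scheme.{u} := fun η => (geomPt η.1).normalization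
  let w : ∀ η : G, W η ⟶ Y := fun η => (geomPt η.1).fromNormalization
  haveI : IsIntegralHom (Sigma.desc w) := SGA1Q.isIntegralHom_sigmaDesc w fun η => inferInstance
  refine ⟨∐ W, Sigma.desc w, inferInstance, ⟨fun y => ?_⟩, fun z => ?_⟩
  · obtain ⟨S, hS, hy⟩ := exists_mem_irreducibleComponents_subset_of_isIrreducible _
      (isIrreducible_singleton (x := y))
    obtain ⟨η, hη⟩ := QuasiSober.sober hS.1 (isClosed_of_mem_irreducibleComponents S hS)
    have hmem : η ∈ G := by
      show closure {η} ∈ irreducibleComponents Y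
      rw [hη.def]; exact hS
    obtain ⟨q, hq⟩ : y ∈ Set.range (w ⟨η, hmem⟩) := by
      rw [range_fromNormalization_geomPt, hη.def]; exact hy rfl
    refine ⟨Sigma.ι W ⟨η, hmem⟩ q, ?_⟩
    rw [← Scheme.Hom.comp_apply, Sigma.ι_desc]
    exact hq
  · obtain ⟨η, q, rfl⟩ : ∃ η q, Sigma.ι W η q = z := by
      obtain ⟨η, q, h⟩ := (sigmaOpenCover W).exists_eq z
      exact ⟨η, q, h⟩
    obtain ⟨V, hqV, s, hs⟩ := exists_section_geomPt η.1 f q
    let m : (V : Scheme.{u}) ⟶ ∐ W := V.ι ≫ Sigma.ι W η
    refine ⟨m.opensRange, ⟨⟨q, hqV⟩, rfl⟩, m.isoOpensRange.inv ≫ s, ?_⟩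
    rw [Category.assoc, hs, Iso.inv_comp_eq, ← Category.assoc, Scheme.Hom.isoOpensRange_hom_ι]
    simp [m, w]

end Groth.Agent.UnivOpenSec
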